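import Mathlib

set_option autoImplicit false

/-!
# Descent of freeness along an injective map out of a ring with nilpotent maximal ideal
-/

universe u

open TensorProduct

namespace Groth.Agent.FlatDescInjLib

theorem free_of_flat_baseChange {R R' M : Type u} [CommRing R] [CommRing R'] [Algebra R R']
    [AddCommGroup M] [Module R M] (hinj : Function.Injective (algebraMap R R'))
    (m : Ideal R) [m.IsMaximal] (hnil : IsNilpotent m) [Module.Flat R' (R' ⊗[R] M)] :
    Module.Free R M := by
  classical
  obtain ⟨k, hk⟩ := hnil
  letI : Field (R ⧸ m) := Ideal.Quotient.field m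
  let Q := M ⧸ (m • ⊤ : Submodule R M)
  let b := Module.Free.chooseBasis (R ⧸ m) Q
  choose v hv using fun i => Submodule.mkQ_surjective (m • ⊤ : Submodule R M) (b i)
  -- `v` generates
  have hgen : Submodule.span R (Set.range v) = ⊤ := by
    have h1 : Submodule.span R (Set.range v) ⊔ m • ⊤ = ⊤ := by
      rw [eq_top_iff]
      intro x _
      have hx : Submodule.mkQ (m • ⊤ : Submodule R M) x ∈ Submodule.span (R ⧸ m) (Set.range b) := by
        rw [b.span_eq]; trivial
      rw [← Submodule.restrictScalars_mem R, Submodule.restrictScalars_span R (R ⧸ m) Ideal.Quotient.mk_surjective,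
        show Set.range b = Submodule.mkQ (m • ⊤ : Submodule R M) '' Set.range v by
          rw [← Set.range_comp]; exact congrArg Set.range (funext fun i => (hv i).symm),
        ← Submodule.map_span] at hx
      obtain ⟨y, hy, hxy⟩ := hx
      rw [Submodule.mkQ_apply, Submodule.mkQ_apply, Submodule.Quotient.eq] at hxy
      have : x = y + -(y - x) := by abel
      rw [this]
      exact Submodule.add_mem_sup hy (Submodule.neg_mem _ hxy)
    have h2 : ∀ j : ℕ, Submodule.span R (Set.range v) ⊔ (m ^ j) • ⊤ = ⊤ := by
      intro j
      induction j with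
      | zero => simp
      | succ j ih =>
        have h3 : (m ^ j) • (⊤ : Submodule R M) ≤
            Submodule.span R (Set.range v) ⊔ (m ^ (j + 1)) • ⊤ := by
          calc (m ^ j) • (⊤ : Submodule R M) = (m ^ j) • (Submodule.span R (Set.range v) ⊔ m • ⊤) := by
                rw [h1]
            _ ≤ _ := by
                rw [Submodule.smul_sup, ← Submodule.smul_assoc, smul_eq_mul, ← pow_succ]
                exact sup_le_sup_right Submodule.smul_le_right _
        exact eq_top_iff.mpr (ih.ge.trans (sup_le le_sup_left h3))
    simpa [hk] using h2 k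
  -- after base change `v` is linearly independent modulo `m`
  let m' := m.map (algebraMap R R')
  let g : (R ⧸ m) →ₗ[R] R' ⧸ m' := Submodule.liftQ m (Algebra.linearMap R (R' ⧸ m')) (fun x hx => by
    rw [LinearMap.mem_ker, Algebra.linearMap_apply, IsScalarTower.algebraMap_apply R R' (R' ⧸ m'),
      Ideal.Quotient.algebraMap_eq, Ideal.Quotient.eq_zero_iff_mem]
    exact Ideal.mem_map_of_mem _ hx)
  have hg1 : g 1 = 1 := by
    show g (Submodule.Quotient.mk 1) = 1
    rw [Submodule.liftQ_apply, Algebra.linearMap_apply, map_one]
  let w := fun i => (1 : R') ⊗ₜ[R] v i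
  let u' := Finsupp.linearCombination R' w
  have hu' : Function.Surjective u' := by
    rw [← LinearMap.range_eq_top, Finsupp.range_linearCombination, Submodule.eq_top_iff']
    intro z
    induction z using TensorProduct.induction_on with
    | zero => exact Submodule.zero_mem _
    | add x y hx hy => exact Submodule.add_mem _ hx hy
    | tmul r x =>
      have hx : x ∈ Submodule.span R (Set.range v) := by rw [hgen]; trivial
      rw [show r ⊗ₜ[R] x = r • ((1 : R') ⊗ₜ[R] x) by rw [smul_tmul', smul_eq_mul, mul_one]]
      refine Submodule.smul_mem _ _ ?_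
      induction hx using Submodule.span_induction with
      | mem y hy => obtain ⟨i, rfl⟩ := hy; exact Submodule.subset_span ⟨i, rfl⟩
      | zero => rw [tmul_zero]; exact Submodule.zero_mem _
      | add a c _ _ ha hc => rw [tmul_add]; exact Submodule.add_mem _ ha hc
      | smul a y _ hy =>
        rw [tmul_smul, ← algebraMap_smul R' a]
        exact Submodule.smul_mem _ _ hy
  let Kr := LinearMap.ker u'
  have hcoord : ∀ x ∈ Kr, ∀ i, x i ∈ m' := by
    intro x hx i
    let ψ : M →ₗ[R] R' ⧸ m' := g ∘ₗ ((b.coord i).restrictScalars R) ∘ₗ Submodule.mkQ _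
    have hψ : ∀ j, ψ (v j) = if j = i then 1 else 0 := by
      intro j
      show g ((b.coord i) (Submodule.mkQ _ (v j))) = _
      rw [hv, Module.Basis.coord_apply, b.repr_self, Finsupp.single_apply]
      split_ifs with h
      · exact hg1
      · exact map_zero g
    have h0 : (ψ.liftBaseChange R') (u' x) = 0 := by
      rw [LinearMap.mem_ker.mp hx, map_zero]
    rw [Finsupp.linearCombination_apply, map_finsuppSum, Finsupp.sum] at h0
    simp only [map_smul, w, LinearMap.liftBaseChange_tmul, one_smul, hψ, smul_ite, smul_zero,
      Finset.sum_ite_eq'] at h0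
    rw [← Ideal.Quotient.eq_zero_iff_mem]
    by_cases hi : i ∈ x.support
    · rw [if_pos hi, Algebra.smul_def, mul_one] at h0
      exact h0
    · rw [Finsupp.notMem_support_iff.mp hi, map_zero]
  have hK : Kr ≤ m' • Kr := by
    intro x hx
    have hx0 : ∑ i ∈ x.support, x i • w i = 0 := by
      have := LinearMap.mem_ker.mp hx
      rwa [Finsupp.linearCombination_apply] at this
    have hsum : ∑ j : x.support, x j • w j = 0 := by
      rw [← hx0]; exact Finset.sum_coe_sort x.support (fun i => x i • w i)
    obtain ⟨n, a, y, hy, ha⟩ := Module.Flat.isTrivialRelation_of_sum_smul_eq_zero hsum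
    choose z hz using fun j => hu' (y j)
    let kk : x.support → _ := fun i => Finsupp.single i.1 (1 : R') - ∑ j, a i j • z j
    have hkk : ∀ i, kk i ∈ Kr := by
      intro i
      rw [LinearMap.mem_ker, map_sub, map_sum, Finsupp.linearCombination_single, one_smul]
      simp only [map_smul, hz]
      exact sub_eq_zero.mpr (hy i)
    have hxk : x = ∑ i : x.support, x i • kk i := by
      simp only [kk, smul_sub, Finset.sum_sub_distrib, Finset.smul_sum, smul_smul]
      rw [Finset.sum_comm]
      simp only [← Finset.sum_smul, ha, zero_smul, Finset.sum_const_zero, sub_zero,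
        Finsupp.smul_single, smul_eq_mul, mul_one]
      rw [Finset.sum_coe_sort x.support (fun i => Finsupp.single i (x i))]
      exact (Finsupp.sum_single x).symm
    rw [hxk]
    exact Submodule.sum_mem _ fun i _ => Submodule.smul_mem_smul (hcoord x hx i) (hkk i)
  have hK0 : ∀ j : ℕ, Kr ≤ (m' ^ j) • Kr := by
    intro j
    induction j with
    | zero => simp
    | succ j ih =>
      refine ih.trans ((Submodule.smul_mono le_rfl hK).trans ?_)
      rw [← Submodule.smul_assoc, smul_eq_mul, ← pow_succ]
  have hker : Kr = ⊥ := by
    have := hK0 k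
    rw [← Ideal.map_pow, hk, Ideal.zero_eq_bot, Ideal.map_bot, Submodule.bot_smul] at this
    exact le_bot_iff.mp this
  -- hence `v` is a basis
  have hli : LinearIndependent R v := by
    rw [linearIndependent_iff]
    intro c hc
    have : (Finsupp.mapRange (algebraMap R R') (map_zero _) c) ∈ Kr := by
      rw [LinearMap.mem_ker, Finsupp.linearCombination_apply,
        Finsupp.sum_mapRange_index (h0 := fun i => zero_smul R' (w i))]
      rw [Finsupp.linearCombination_apply] at hc
      simp only [w, algebraMap_smul, ← tmul_smul]
      rw [Finsupp.sum, ← tmul_sum]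
      rw [Finsupp.sum] at hc
      rw [hc, tmul_zero]
    rw [hker, Submodule.mem_bot] at this
    refine Finsupp.mapRange_injective _ (map_zero _) hinj ?_
    rw [this, Finsupp.mapRange_zero]
  exact Module.Free.of_basis (Module.Basis.mk hli hgen.ge)

end Groth.Agent.FlatDescInjLib
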